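import Cfsg.Agent.Lib.Helper28.UMax
import Cfsg.Agent.Lib.Helper28.UHerm
import Cfsg.Agent.Lib.Helper29.ExtrL.Basic

/-!
# Project UT (S5655, toral case `k = 1`, `q ≥ 3`): definitions

Overgroups of the monomial group `(q+1)^(n-1) : S_n` in `SU_n(q)`, `n ≥ 13`, `q ≥ 3`, for the STANDARD
frame `e_1, …, e_n` of `F^n`, `F = F_{q²}`, form `Cfsg.hermForm n F q`.
See `PLAN.md` in this folder for the paper proof and `Skel.lean.txt` for the list of pieces.
-/

set_option autoImplicit false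

open Cfsg

namespace Cfsg.Agent.Lib.Helper9.UT

open Matrix Cfsg.Agent.Lib.Helper29.ExtrL

/-- `SU_n(q)` as a subgroup of `GL_n(q²)`. -/
abbrev SUg (n : ℕ) (F : Type*) [Field F] (q : ℕ) :
    Subgroup (Matrix.GeneralLinearGroup (Fin n) F) :=
  Cfsg.GU n F q ⊓ Cfsg.Geo.specialLinear (Fin n) F

/-- field and form data: `|F| = q²`, `σ = x ↦ x^q`, and the standard hermitian form is unitary
for `σ` (this last field follows from the first two by `Helper28.UHerm.herm_unitary`; it is carried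
along so that the `Helper28` library applies at once). -/
structure UF (n q : ℕ) {F : Type*} [Field F] [Fintype F] (σ : F ≃+* F) : Prop where
  hF : Fintype.card F = q ^ 2
  hσ : ∀ x, σ x = x ^ q
  hU : Cfsg.Geo.IsUnitaryForm σ (Cfsg.hermForm n F q)

/-- the standing hypotheses on `M`: it contains every monomial matrix of `SU_n(q)` and lies in
`SU_n(q)`. -/
structure UTS (n q : ℕ) {F : Type*} [Field F] [Fintype F] (σ : F ≃+* F)
    (M : Subgroup (Matrix.GeneralLinearGroup (Fin n) F)) : Prop extends UF n q σ where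
  hN : ∀ g : Matrix.GeneralLinearGroup (Fin n) F, g ∈ SUg n F q →
    IsMono (g : Matrix (Fin n) (Fin n) F) → g ∈ M
  hMS : M ≤ SUg n F q

/-- `t` is the unitary transvection `x ↦ x + f(x, c w) w` (convention of `Helper28`; it is an
isometry when `f(w,w) = 0` and `σ c = -c`). -/
def IsTv (n q : ℕ) {F : Type*} [Field F] (t : Matrix.GeneralLinearGroup (Fin n) F)
    (w : Fin n → F) (c : F) : Prop :=
  ∀ x, (t : Matrix (Fin n) (Fin n) F) *ᵥ x = x + Cfsg.hermForm n F q x (c • w) • w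

/-- `y` is a *reflection centre relative to the coordinate `k`*: a unit vector with `y k = 0` such
that for every `x` of norm one `M` contains `r_y(x) r_{e_k}(x⁻¹)`,
`v ↦ v + (x - 1) f(v, y) y + (x⁻¹ - 1) v_k e_k`. -/
def RC (n q : ℕ) {F : Type*} [Field F] (σ : F ≃+* F)
    (M : Subgroup (Matrix.GeneralLinearGroup (Fin n) F)) (k : Fin n) (y : Fin n → F) : Prop :=
  Cfsg.hermForm n F q y y = 1 ∧ y k = 0 ∧
    ∀ x : F, x * σ x = 1 → ∃ m ∈ M, ∀ v : Fin n → F,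
      (m : Matrix (Fin n) (Fin n) F) *ᵥ v =
        v + ((x - 1) * Cfsg.hermForm n F q v y) • y + ((x⁻¹ - 1) * v k) • Pi.single k (1 : F)

/-- (H1) for the pair `{i, j}`: a vector of `⟨b1, b2⟩` with a non-zero coordinate outside `{i, j}`
has at least two of them. -/
def Hyp1 {n : ℕ} {F : Type*} [Field F] (b1 b2 : Fin n → F) (i j : Fin n) : Prop :=
  ∀ α β : F, ∀ m, m ≠ i → m ≠ j → (α • b1 + β • b2) m ≠ 0 →
    ∃ m', m' ≠ m ∧ m' ≠ i ∧ m' ≠ j ∧ (α • b1 + β • b2) m' ≠ 0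

/-- (H2): a vector of `⟨b1, b2⟩` with a non-zero coordinate outside `{i2, j2, i3, j3}` has at
least three of them. -/
def Hyp2 {n : ℕ} {F : Type*} [Field F] (b1 b2 : Fin n → F) (i2 j2 i3 j3 : Fin n) : Prop :=
  ∀ α β : F, ∀ m, m ≠ i2 → m ≠ j2 → m ≠ i3 → m ≠ j3 → (α • b1 + β • b2) m ≠ 0 →
    ∃ m' m'', m' ≠ m ∧ m'' ≠ m ∧ m' ≠ m'' ∧
      m' ≠ i2 ∧ m' ≠ j2 ∧ m' ≠ i3 ∧ m' ≠ j3 ∧ m'' ≠ i2 ∧ m'' ≠ j2 ∧ m'' ≠ i3 ∧ m'' ≠ j3 ∧
      (α • b1 + β • b2) m' ≠ 0 ∧ (α • b1 + β • b2) m'' ≠ 0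

/-- (H3): a vector of `⟨b1, b2⟩` supported inside `{i2, j2, i3, j3}` is supported inside
`{i2, j2}`. -/
def Hyp3 {n : ℕ} {F : Type*} [Field F] (b1 b2 : Fin n → F) (i2 j2 i3 j3 : Fin n) : Prop :=
  ∀ α β : F, (∀ m, m ≠ i2 → m ≠ j2 → m ≠ i3 → m ≠ j3 → (α • b1 + β • b2) m = 0) →
    (α • b1 + β • b2) i3 = 0 ∧ (α • b1 + β • b2) j3 = 0

variable {n q : ℕ} {F : Type*} [Field F] [Fintype F] {σ : F ≃+* F}

theorem herm_apply (S : UF n q σ) (x y : Fin n → F) :
    Cfsg.hermForm n F q x y = ∑ i, x i * σ (y i) := by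
  unfold Cfsg.hermForm
  exact Finset.sum_congr rfl (fun i _ => by rw [S.hσ])

theorem herm_single_right (S : UF n q σ) (x : Fin n → F) (i : Fin n) (a : F) :
    Cfsg.hermForm n F q x (Pi.single i a) = x i * σ a := by
  rw [herm_apply S, Finset.sum_eq_single i]
  · rw [Pi.single_eq_same]
  · intro j _ hji
    rw [Pi.single_eq_of_ne hji, map_zero, mul_zero]
  · intro h
    exact absurd (Finset.mem_univ _) h

theorem herm_single_left (S : UF n q σ) (x : Fin n → F) (i : Fin n) (a : F) :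
    Cfsg.hermForm n F q (Pi.single i a) x = a * σ (x i) := by
  rw [herm_apply S, Finset.sum_eq_single i]
  · rw [Pi.single_eq_same]
  · intro j _ hji
    rw [Pi.single_eq_of_ne hji, zero_mul]
  · intro h
    exact absurd (Finset.mem_univ _) h

theorem mem_SUg_iff (g : Matrix.GeneralLinearGroup (Fin n) F) :
    g ∈ SUg n F q ↔
      (∀ x y, Cfsg.hermForm n F q ((g : Matrix (Fin n) (Fin n) F) *ᵥ x)
        ((g : Matrix (Fin n) (Fin n) F) *ᵥ y) = Cfsg.hermForm n F q x y) ∧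
      (g : Matrix (Fin n) (Fin n) F).det = 1 := by
  constructor
  · rintro ⟨h1, h2⟩
    exact ⟨h1, Cfsg.Agent.Lib.Helper28.UGen.det_of_SL g h2⟩
  · rintro ⟨h1, h2⟩
    refine ⟨h1, ?_⟩
    have : g ∈ (Matrix.GeneralLinearGroup.det :
        Matrix.GeneralLinearGroup (Fin n) F →* Fˣ).ker := by
      rw [MonoidHom.mem_ker]
      apply Units.ext
      simpa using h2
    exact this

theorem iso_of_mem {M : Subgroup (Matrix.GeneralLinearGroup (Fin n) F)} (S : UTS n q σ M)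
    {g : Matrix.GeneralLinearGroup (Fin n) F} (hg : g ∈ M) (x y : Fin n → F) :
    Cfsg.hermForm n F q ((g : Matrix (Fin n) (Fin n) F) *ᵥ x)
      ((g : Matrix (Fin n) (Fin n) F) *ᵥ y) = Cfsg.hermForm n F q x y :=
  ((mem_SUg_iff g).1 (S.hMS hg)).1 x y

/-- the data `UF` exist as soon as `|F| = q²`. -/
theorem uf_exists (n : ℕ) {q : ℕ} (hF : Fintype.card F = q ^ 2) : ∃ σ : F ≃+* F, UF n q σ := by
  obtain ⟨σ, hσ, hU⟩ := Cfsg.Agent.Lib.Helper28.UHerm.herm_unitary hF n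
  exact ⟨σ, hF, hσ, hU⟩

end Cfsg.Agent.Lib.Helper9.UT
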