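import Cfsg.Agent.Lib.Helper9.UT.Defs
import Cfsg.Agent.Lib.Helper9.UTKILL
import Cfsg.Agent.Lib.Helper9.UTBMAIN
import Cfsg.Agent.Lib.Helper18.UTCMAIN

/-!
# Project UT: the main theorem `ut_main` (toral case `k = 1`, `q ≥ 3`, of S5655)

A subgroup `M` of `SU_n(q)` (`n ≥ 13`, `q ≥ 3`) containing all monomial matrices of `SU_n(q)` and
one non-monomial matrix is all of `SU_n(q)`.

* Part A (`c0_false`, `Helper9.UTKILL`): the configuration `C0 M` is impossible.
* Part B (`xs_of_notC0`, `Helper9.UTBMAIN`): without `C0 M` there is a full root group in `M`.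
* Part C (`closure_main`, `Helper18.UTCMAIN`): a full root group forces `M = SU_n(q)`.
-/

set_option autoImplicit false

open Cfsg

namespace Cfsg.Agent.Lib.Helper9.UT

open Matrix Cfsg.Agent.Lib.Helper29.ExtrL Cfsg.Agent.Lib.Helper28.UMax

/-- MAIN (interface for project UD / S5655). -/
theorem ut_main {F : Type*} [Field F] [Fintype F] (n q : ℕ) (hF : Fintype.card F = q ^ 2)
    (hn : 13 ≤ n) (hq : 3 ≤ q) (M : Subgroup (Matrix.GeneralLinearGroup (Fin n) F))
    (hNM : ∀ g : Matrix.GeneralLinearGroup (Fin n) F,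
      g ∈ Cfsg.GU n F q ⊓ Cfsg.Geo.specialLinear (Fin n) F →
      Cfsg.Agent.Lib.Helper29.ExtrL.IsMono (g : Matrix (Fin n) (Fin n) F) → g ∈ M)
    (hMG : M ≤ Cfsg.GU n F q ⊓ Cfsg.Geo.specialLinear (Fin n) F)
    (hne : ∃ g ∈ M, ¬ Cfsg.Agent.Lib.Helper29.ExtrL.IsMono (g : Matrix (Fin n) (Fin n) F)) :
    Cfsg.GU n F q ⊓ Cfsg.Geo.specialLinear (Fin n) F ≤ M := by
  obtain ⟨σ, hUF⟩ := uf_exists (F := F) n hF
  have S : UTS n q σ M := { toUF := hUF, hN := hNM, hMS := hMG }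
  by_cases hC0 : C0 M
  · exact (c0_false S hn hq hC0 hne).elim
  · obtain ⟨w, hw, hw0, k, hk⟩ := xs_of_notC0 S hq hn hC0
    exact closure_main S hq hn hw hw0 hk

end Cfsg.Agent.Lib.Helper9.UT
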